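import Mathlib.RingTheory.QuasiFinite.Basic
import Mathlib.RingTheory.Jacobson.Ring
import Mathlib.RingTheory.Spectrum.Prime.Jacobson
import Mathlib.RingTheory.Spectrum.Maximal.Topology
import Mathlib.RingTheory.Localization.Away.Basic
import Mathlib.RingTheory.Valuation.ValuationSubring
import Mathlib.RingTheory.FiniteType
import Mathlib.LinearAlgebra.Dimension.Finite

/-! # Algebras over semi-valuation rings with finite generic fibre are quasi-finite -/

set_option autoImplicit false
set_option linter.style.haveILetI false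
universe u

open IsLocalRing

namespace Groth.Agent.SemiVal19

/-- A finite type algebra over a field with boundedly many maximal ideals has finite spectrum. -/
theorem finite_primeSpectrum_of_finite_maximal (F : Type u) [CommRing F] [IsJacobsonRing F]
    (h : {P : PrimeSpectrum F | P.asIdeal.IsMaximal}.Finite) : Finite (PrimeSpectrum F) := by
  have h1 : closedPoints (PrimeSpectrum F) = {P : PrimeSpectrum F | P.asIdeal.IsMaximal} := by
    ext P
    exact PrimeSpectrum.isClosed_singleton_iff_isMaximal P
  have h2 : IsClosed (closedPoints (PrimeSpectrum F)) := by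
    have hfin : (closedPoints (PrimeSpectrum F)).Finite := h1 ▸ h
    have hU := hfin.isClosed_biUnion (f := fun P => ({P} : Set (PrimeSpectrum F))) fun P hP => hP
    rwa [Set.biUnion_of_singleton] at hU
  have h3 : (closedPoints (PrimeSpectrum F)) = Set.univ := by
    rw [← h2.closure_eq, closure_closedPoints]
  rw [← Set.finite_univ_iff, ← h3, h1]
  exact h

/-- A finite type algebra over a field with finite spectrum is finite. -/
theorem moduleFinite_of_finite_primeSpectrum (K F : Type u) [Field K] [CommRing F] [Algebra K F]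
    [Algebra.FiniteType K F] [Finite (PrimeSpectrum F)] : Module.Finite K F := by
  rw [Module.finite_iff_isArtinianRing, isArtinianRing_iff_isNoetherianRing_krullDimLE_zero]
  have : IsJacobsonRing F := isJacobsonRing_of_finiteType (A := K)
  exact ⟨Algebra.FiniteType.isNoetherianRing K F,
    (PrimeSpectrum.discreteTopology_iff_finite_and_krullDimLE_zero.mp inferInstance).right⟩

variable {A : Type u} [CommRing A] (f : A) (O : Type u) [CommRing O] [IsLocalRing O] [Algebra A O]
  [IsLocalization.Away f O]

theorem mul_left_cancel₀_of_nzd {C : Type u} [CommRing C] {x a b : C} (hx : x ∈ nonZeroDivisors C)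
    (h : x * a = x * b) : a = b := by
  rw [← sub_eq_zero]
  exact (mem_nonZeroDivisors_iff_right.1 hx) _ (by rw [sub_mul, mul_comm a, mul_comm b, h, sub_self])

theorem fibre_finite (hinj : Function.Injective (algebraMap A O))
    (hm : ∀ x ∈ maximalIdeal O, x ∈ Set.range (algebraMap A O))
    (hR : ∀ g : ResidueField O, (∃ a : A, residue O (algebraMap A O a) = g) ∨
      ∃ a : A, residue O (algebraMap A O a) = g⁻¹)
    (C : Type u) [CommRing C] [Algebra A C] [Algebra.FiniteType A C]
    (hf : algebraMap A C f ∈ nonZeroDivisors C)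
    (hfin : ∀ p : Ideal A, p.IsPrime → f ∉ p → (p.primesOver C).Finite)
    (p : Ideal A) [p.IsPrime] : (p.primesOver C).Finite := by
  classical
  by_cases hfp : f ∈ p
  swap
  · exact hfin p inferInstance hfp
  let mA : Ideal A := (maximalIdeal O).comap (algebraMap A O)
  have hfu : IsUnit (algebraMap A O f) := IsLocalization.Away.algebraMap_isUnit f
  have hmf : ∀ x ∈ mA, ∃ y ∈ mA, x = f * y := by
    intro x hx
    have hx' : algebraMap A O x * (↑hfu.unit⁻¹ : O) ∈ maximalIdeal O := Ideal.mul_mem_right _ _ hx
    obtain ⟨y, hy⟩ := hm _ hx'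
    refine ⟨y, by rw [Ideal.mem_comap, hy]; exact hx', hinj ?_⟩
    rw [map_mul, hy, mul_comm, mul_assoc, hfu.val_inv_mul, mul_one]
  have hmp : mA ≤ p := fun x hx => by
    obtain ⟨y, -, rfl⟩ := hmf x hx
    exact Ideal.mul_mem_right _ _ hfp
  let fC := algebraMap A C f
  let mC : Ideal C := mA.map (algebraMap A C)
  have hsat : ∀ (n : ℕ) (c : C), fC ^ n * c ∈ mC → c ∈ mC := by
    have h1 : ∀ x ∈ mC, ∃ y ∈ mC, x = fC * y := by
      intro x hx
      induction hx using Submodule.span_induction with
      | mem x hx =>
        obtain ⟨a, ha, rfl⟩ := hx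
        obtain ⟨b, hb, rfl⟩ := hmf a ha
        exact ⟨_, Ideal.mem_map_of_mem _ hb, map_mul _ _ _⟩
      | zero => exact ⟨0, zero_mem _, (mul_zero _).symm⟩
      | add x y _ _ hx hy =>
        obtain ⟨a, ha, rfl⟩ := hx
        obtain ⟨b, hb, rfl⟩ := hy
        exact ⟨a + b, add_mem ha hb, (mul_add _ _ _).symm⟩
      | smul c x _ hx =>
        obtain ⟨a, ha, rfl⟩ := hx
        exact ⟨c * a, Ideal.mul_mem_left _ _ ha, by rw [smul_eq_mul, mul_left_comm]⟩
    intro n
    induction n with
    | zero => intro c hc; simpa using hc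
    | succ n ih =>
      intro c hc
      obtain ⟨y, hy, hxy⟩ := h1 _ hc
      rw [pow_succ', mul_assoc] at hxy
      exact ih c ((mul_left_cancel₀_of_nzd hf hxy) ▸ hy)
  let Cf := Localization.Away fC
  have hu : IsUnit (((algebraMap C Cf).comp (algebraMap A C)) f) := IsLocalization.Away.algebraMap_isUnit fC
  letI : Algebra O Cf := (IsLocalization.Away.lift f hu : O →+* Cf).toAlgebra
  haveI : IsScalarTower A O Cf := IsScalarTower.of_algebraMap_eq fun a => by
    rw [RingHom.algebraMap_toAlgebra, IsLocalization.Away.lift_eq, RingHom.comp_apply,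
      ← IsScalarTower.algebraMap_apply A C Cf]
  haveI : Algebra.FiniteType A Cf := Algebra.FiniteType.trans (inferInstance : Algebra.FiniteType A C)
    (IsLocalization.finiteType_of_monoid_fg (Submonoid.powers fC) Cf)
  haveI : Algebra.FiniteType O Cf := Algebra.FiniteType.of_restrictScalars_finiteType A O Cf
  let J : Ideal Cf := (maximalIdeal O).map (algebraMap O Cf)
  have hJ : J = mC.map (algebraMap C Cf) := by
    have e : maximalIdeal O = mA.map (algebraMap A O) := by
      refine le_antisymm (fun x hx => ?_) Ideal.map_comap_le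
      obtain ⟨a, rfl⟩ := hm x hx
      exact Ideal.mem_map_of_mem _ hx
    show (maximalIdeal O).map (algebraMap O Cf) = _
    rw [e, Ideal.map_map, Ideal.map_map, ← IsScalarTower.algebraMap_eq A O Cf,
      ← IsScalarTower.algebraMap_eq A C Cf]
  let V := Cf ⧸ J
  letI : Algebra (ResidueField O) V := Ideal.Quotient.algebraQuotientMapQuotient (p := maximalIdeal O)
  haveI : IsScalarTower O (ResidueField O) V := IsScalarTower.of_algebraMap_eq fun x => rfl
  haveI : Algebra.FiniteType O V :=
    Algebra.FiniteType.of_surjective (Ideal.Quotient.mkₐ O J) Ideal.Quotient.mk_surjective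
  haveI : Algebra.FiniteType (ResidueField O) V := Algebra.FiniteType.of_restrictScalars_finiteType O _ V
  haveI : Finite (PrimeSpectrum V) := by
    have hfP : f ∉ mA := fun h => (maximalIdeal O).ne_top_iff_one.1 (Ideal.IsPrime.ne_top') (by
      have h' := Ideal.mul_mem_right (↑hfu.unit⁻¹ : O) _ (show algebraMap A O f ∈ maximalIdeal O from h)
      rwa [hfu.mul_val_inv] at h')
    haveI : mA.IsPrime := Ideal.comap_isPrime _ _
    haveI := (hfin mA inferInstance hfP).to_subtype
    let φ : C →+* V := (Ideal.Quotient.mk J).comp (algebraMap C Cf)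
    refine Finite.of_injective (fun P : PrimeSpectrum V =>
      (⟨P.asIdeal.comap φ, Ideal.comap_isPrime _ _, ⟨?_⟩⟩ : mA.primesOver C)) fun P Q h => ?_
    · refine le_antisymm (fun a ha => ?_) fun a ha => ?_
      · show φ (algebraMap A C a) ∈ P.asIdeal
        have : algebraMap C Cf (algebraMap A C a) ∈ J := hJ ▸ Ideal.mem_map_of_mem _ (Ideal.mem_map_of_mem _ ha)
        show Ideal.Quotient.mk J _ ∈ P.asIdeal
        rw [Ideal.Quotient.eq_zero_iff_mem.2 this]
        exact zero_mem _
      · by_contra hna
        have hua : IsUnit (algebraMap A O a) := by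
          by_contra hua
          exact hna ((mem_maximalIdeal _).2 hua)
        have := (hua.map (algebraMap O Cf)).map (Ideal.Quotient.mk J)
        rw [← IsScalarTower.algebraMap_apply A O Cf, IsScalarTower.algebraMap_apply A C Cf] at this
        exact P.2.ne_top (Ideal.eq_top_of_isUnit_mem _ (show φ (algebraMap A C a) ∈ P.asIdeal from ha) this)
    · have hc : P.asIdeal.comap φ = Q.asIdeal.comap φ := congrArg Subtype.val h
      refine PrimeSpectrum.ext (Ideal.comap_injective_of_surjective _ Ideal.Quotient.mk_surjective ?_)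
      rw [← Ideal.comap_comap, ← Ideal.comap_comap] at hc
      rw [← IsLocalization.map_under (Submonoid.powers fC) Cf (P.asIdeal.comap (Ideal.Quotient.mk J)),
        ← IsLocalization.map_under (Submonoid.powers fC) Cf (Q.asIdeal.comap (Ideal.Quotient.mk J))]
      exact congrArg (Ideal.map (algebraMap C Cf)) hc
  haveI : Module.Finite (ResidueField O) V := moduleFinite_of_finite_primeSpectrum _ _
  let N := Module.finrank (ResidueField O) V
  -- antichains of primes over `p` have bounded cardinality
  have hbound : ∀ t : Finset (Ideal C), (∀ P ∈ t, P.IsPrime ∧ P.LiesOver p) →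
      IsAntichain (· ≤ ·) (t : Set (Ideal C)) → t.card ≤ N := by
    intro t ht hanti
    have he : ∀ P : t, ∃ e : C, e ∉ P.1 ∧ ∀ Q ∈ t, Q ≠ P.1 → e ∈ Q := fun P => by
      have hprime := (ht P.1 P.2).1
      have hnle : ¬ ((t.erase P.1).inf id ≤ P.1) := by
        rw [Ideal.IsPrime.inf_le' hprime]
        rintro ⟨Q, hQ, hQP⟩
        exact hanti (Finset.mem_of_mem_erase hQ) P.2 (Finset.ne_of_mem_erase hQ) hQP
      obtain ⟨e, he, heP⟩ := SetLike.not_le_iff_exists.1 hnle
      exact ⟨e, heP, fun Q hQ hne => (Submodule.mem_finsetInf.1 he) Q (Finset.mem_erase.2 ⟨hne, hQ⟩)⟩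
    choose e he1 he2 using he
    let ψ : C →+* V := (Ideal.Quotient.mk J).comp (algebraMap C Cf)
    suffices hli : LinearIndependent (ResidueField O) (fun P : t => ψ (e P)) by
      simpa using hli.fintype_card_le_finrank
    rw [Fintype.linearIndependent_iff]
    intro g hg
    by_contra! hne
    obtain ⟨i₀, hi₀⟩ := hne
    -- the coefficient of largest valuation
    have hex : ∀ s : Finset t, (∃ x ∈ s, g x ≠ 0) → ∃ i ∈ s, g i ≠ 0 ∧
        ∀ j ∈ s, ∃ a : A, residue O (algebraMap A O a) = g j * (g i)⁻¹ := by
      intro s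
      induction s using Finset.induction_on with
      | empty => simp
      | @insert x s hxs ih =>
        intro hmem
        by_cases hs : ∃ y ∈ s, g y ≠ 0
        · obtain ⟨i, hi, hgi, hall⟩ := ih hs
          rcases hR (g x * (g i)⁻¹) with hx | ⟨b, hb⟩
          · exact ⟨i, Finset.mem_insert_of_mem hi, hgi, fun j hj => (Finset.mem_insert.1 hj).elim
              (fun h => h ▸ hx) (hall j)⟩
          · by_cases hgx : g x = 0
            · exact ⟨i, Finset.mem_insert_of_mem hi, hgi, fun j hj => (Finset.mem_insert.1 hj).elim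
                (fun h => ⟨0, by simp [h, hgx]⟩) (hall j)⟩
            · refine ⟨x, Finset.mem_insert_self x s, hgx, fun j hj => ?_⟩
              rcases Finset.mem_insert.1 hj with rfl | hj
              · exact ⟨1, by simp [hgx]⟩
              · obtain ⟨a, ha⟩ := hall j hj
                refine ⟨a * b, ?_⟩
                rw [map_mul, map_mul, ha, hb, mul_inv, inv_inv]
                field_simp
        · push Not at hs
          have hgx : g x ≠ 0 := by
            obtain ⟨y, hy, hy0⟩ := hmem
            rcases Finset.mem_insert.1 hy with rfl | hy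
            · exact hy0
            · exact absurd (hs y hy) hy0
          refine ⟨x, Finset.mem_insert_self x s, hgx, fun j hj => ?_⟩
          rcases Finset.mem_insert.1 hj with rfl | hj
          · exact ⟨1, by simp [hgx]⟩
          · exact ⟨0, by simp [hs j hj]⟩
    obtain ⟨i, -, hgi, hall⟩ := hex Finset.univ ⟨i₀, Finset.mem_univ _, hi₀⟩
    choose a ha using fun j => hall j (Finset.mem_univ j)
    let S := ∑ j, algebraMap A C (a j) * e j
    have hψ : ψ S = 0 := by
      have hsc : ∀ j, ψ (algebraMap A C (a j) * e j) = (g i)⁻¹ • (g j • ψ (e j)) := fun j => by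
        rw [smul_smul, mul_comm _ (g j), ← ha j, Algebra.smul_def, map_mul]
        congr 1
        show Ideal.Quotient.mk J (algebraMap C Cf (algebraMap A C (a j))) = Ideal.Quotient.mk J (algebraMap O Cf (algebraMap A O (a j)))
        rw [← IsScalarTower.algebraMap_apply A C Cf, ← IsScalarTower.algebraMap_apply A O Cf]
      rw [map_sum, Finset.sum_congr rfl (fun j _ => hsc j), ← Finset.smul_sum (r := (g i)⁻¹) (f := fun j => g j • ψ (e j)), hg, smul_zero]
    have hS : S ∈ mC := by
      have h' : algebraMap C Cf S ∈ mC.map (algebraMap C Cf) := hJ ▸ Ideal.Quotient.eq_zero_iff_mem.1 hψ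
      obtain ⟨⟨⟨y, hy⟩, ⟨_, n, rfl⟩⟩, hyn⟩ := (IsLocalization.mem_map_algebraMap_iff (Submonoid.powers fC) Cf).1 h'
      rw [← map_mul] at hyn
      obtain ⟨⟨_, k, rfl⟩, hk⟩ := IsLocalization.exists_of_eq (M := Submonoid.powers fC) hyn
      refine hsat (k + n) S ?_
      have : fC ^ (k + n) * S = fC ^ k * y := by
        simp only at hk
        rw [← hk, pow_add]
        ring
      rw [this]
      exact Ideal.mul_mem_left _ _ hy
    have hP := ht i.1 i.2
    haveI := hP.1
    haveI := hP.2
    have hSi : S ∈ i.1 := (Ideal.map_le_iff_le_comap.2 (hmp.trans_eq (Ideal.over_def i.1 p))) hS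
    have hai : a i ∉ p := fun h => by
      have h1 : residue O (algebraMap A O (a i)) = 1 := by rw [ha i, mul_inv_cancel₀ hgi]
      have h2 : a i - 1 ∈ mA := by
        show algebraMap A O (a i - 1) ∈ maximalIdeal O
        rw [← residue_eq_zero_iff, map_sub, map_sub, h1, map_one, map_one, sub_self]
      have := sub_mem h (hmp h2)
      rw [sub_sub_cancel] at this
      exact Ideal.IsPrime.ne_top' (Ideal.eq_top_of_isUnit_mem p this isUnit_one)
    have hrest : ∑ j ∈ Finset.univ.erase i, algebraMap A C (a j) * e j ∈ i.1 :=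
      sum_mem fun j hj => Ideal.mul_mem_left _ _
        (he2 j i.1 i.2 fun h => Finset.ne_of_mem_erase hj (Subtype.ext h.symm))
    have : algebraMap A C (a i) * e i ∈ i.1 := by
      have h := sub_mem hSi hrest
      rwa [show S = _ from (Finset.add_sum_erase _ _ (Finset.mem_univ i)).symm, add_sub_cancel_right] at h
    rcases hP.1.mem_or_mem this with h | h
    · exact hai ((Ideal.over_def i.1 p).symm ▸ h)
    · exact he1 i h
  let α := PrimeSpectrum.primesOverOrderIsoFiber A C p
  haveI : IsJacobsonRing (p.Fiber C) := isJacobsonRing_of_finiteType (A := p.ResidueField)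
  haveI : Finite (PrimeSpectrum (p.Fiber C)) := by
    refine finite_primeSpectrum_of_finite_maximal _ ?_
    by_contra hinf
    obtain ⟨t, hts, htc⟩ := Set.Infinite.exists_subset_card_eq hinf (N + 1)
    let t' : Finset (Ideal C) := t.image fun P => (α.symm P).1
    have hinj' : Function.Injective fun P => ((α.symm P).1 : Ideal C) :=
      Subtype.val_injective.comp α.symm.injective
    have hle := hbound t' (fun P hP => ?_) fun P hP Q hQ hne hle => ?_
    · rw [Finset.card_image_of_injective _ hinj', htc] at hle
      omega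
    · obtain ⟨x, -, rfl⟩ := Finset.mem_image.1 hP
      exact (α.symm x).2
    · obtain ⟨x, hx, rfl⟩ := Finset.mem_image.1 hP
      obtain ⟨y, hy, rfl⟩ := Finset.mem_image.1 hQ
      have hxy : x ≤ y := α.symm.le_iff_le.1 hle
      have hxm : x.asIdeal.IsMaximal := hts hx
      exact hne (by rw [PrimeSpectrum.ext (hxm.eq_of_le y.2.ne_top hxy)])
  exact Set.finite_coe_iff.1 (Finite.of_equiv _ α.symm.toEquiv)

end Groth.Agent.SemiVal19
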